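import Groth.Agent.HomCohLib.Tilde
import Groth.Agent.ExtShLib.Hcx
import Groth.Agent.Formal2VBLib.Hom
import Mathlib.CategoryTheory.Linear.Yoneda
import Mathlib.Algebra.Category.ModuleCat.Abelian

/-!
# `Hom(M~, N~) = Hom(M, N)~` naturally in `N`
-/

set_option autoImplicit false
set_option maxHeartbeats 1000000
set_option backward.isDefEq.respectTransparency false
set_option backward.isDefEq.respectTransparency.types false

noncomputable section

universe u

open CategoryTheory CategoryTheory.Limits AlgebraicGeometry TopologicalSpace Opposite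
open CohCmpLib (homMod happ)
open HomCohLib (topLin topLin_bijective)

namespace Groth.Agent.ExtAffLib

variable {R : CommRingCat.{u}} (M : ModuleCat.{u} R) [Module.FinitePresentation R M] (N : ModuleCat.{u} R)

theorem isQCoh_hom : Coh.IsQCoh (homMod (tilde M) (tilde N)) := by
  have := MiscFlat6.isQCoh_tilde M
  have := MiscFlat6.isQCoh_tilde N
  have := MiscFlat6.finitePresentation_top M
  exact QCohLib.isQCoh_of_localizingAt _ (fun _ : PUnit.{u+1} => ⊤)
    (fun _ => isAffineOpen_top _) (iSup_const) fun _ g => HomCohLib.localizingAt_homMod (isAffineOpen_top _) g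

/-- Global sections. -/
def secEquiv : moduleSpecΓFunctor.obj (homMod (tilde M) (tilde N)) ≃ₗ[R] (M ⟶ N) :=
  ((LinearEquiv.ofBijective (topLin M N) (topLin_bijective M N)).trans
    ((tilde.isoTop M).toLinearEquiv.arrowCongr (tilde.isoTop N).toLinearEquiv).symm).trans ModuleCat.homLinearEquiv.symm

theorem isoTop_secEquiv (s : moduleSpecΓFunctor.obj (homMod (tilde M) (tilde N))) (m : M) :
    (tilde.isoTop N).hom ((secEquiv M N s).hom m) = happ s ((tilde.isoTop M).hom m) := by
  show (tilde.isoTop N).hom ((tilde.isoTop N).inv (happ s ((tilde.isoTop M).hom m))) = _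
  exact (tilde.isoTop N).toLinearEquiv.apply_symm_apply _

theorem secEquiv_natural {N' : ModuleCat.{u} R} (f : N ⟶ N')
    (s : moduleSpecΓFunctor.obj (homMod (tilde M) (tilde N))) :
    secEquiv M N' (moduleSpecΓFunctor.map (Formal2VBLib.hMap (E := tilde M) ((tilde.functor R).map f)) s) =
      secEquiv M N s ≫ f := by
  ext m
  apply (tilde.isoTop N').toLinearEquiv.injective
  show (tilde.isoTop N').hom _ = (tilde.isoTop N').hom (f ((secEquiv M N s).hom m))
  rw [isoTop_secEquiv,
    show (tilde.isoTop N').hom (f ((secEquiv M N s).hom m)) =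
      moduleSpecΓFunctor.map ((tilde.functor R).map f) ((tilde.isoTop N).hom ((secEquiv M N s).hom m)) from
      ConcreteCategory.congr_hom (tilde.toTildeΓNatIso.hom.naturality f) _, isoTop_secEquiv]
  refine ProjFormLib.section_ext _ _ fun y hy => ?_
  change ProjFormLib.ger _ y hy (happ ((Formal2VBLib.hMap (E := tilde M) ((tilde.functor R).map f)).app ⊤ s) _) =
    ProjFormLib.ger _ y hy (((tilde.functor R).map f).app ⊤ (happ s ((tilde.isoTop M).hom m)))
  rw [CohCmpLib.ger_happ, Formal2VBLib.hVal_hMap, ← ProjFormLib.ger_map, CohCmpLib.ger_happ]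

/-- The isomorphism at an object. -/
def objIso : homMod (tilde M) (tilde N) ≅ tilde (ModuleCat.of R (M ⟶ N)) :=
  letI : IsIso (homMod (tilde M) (tilde N)).fromTildeΓ :=
    (isQuasicoherent_iff_isIso_fromTildeΓ _).1 (isQCoh_hom M N)
  (asIso (homMod (tilde M) (tilde N)).fromTildeΓ).symm ≪≫ (tilde.functor R).mapIso (secEquiv M N).toModuleIso

/-- `Hom(M~, N~) = Hom(M, N)~`, naturally in `N`. -/
def homTilde : tilde.functor R ⋙ PnDualLib.homFun (tilde M) ≅
    (linearCoyoneda R (ModuleCat.{u} R)).obj (op M) ⋙ tilde.functor R :=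
  NatIso.ofComponents (fun N => objIso M N) fun {N N'} f => by
    haveI : IsIso (homMod (tilde M) (tilde N)).fromTildeΓ :=
      (isQuasicoherent_iff_isIso_fromTildeΓ _).1 (isQCoh_hom M N)
    haveI : IsIso (homMod (tilde M) (tilde N')).fromTildeΓ :=
      (isQuasicoherent_iff_isIso_fromTildeΓ _).1 (isQCoh_hom M N')
    let H := Formal2VBLib.hMap (E := tilde M) ((tilde.functor R).map f)
    have h1 : (PnDualLib.homFun (tilde M)).map ((tilde.functor R).map f) = H := PnDualLib.homFun_map _ _
    have h2 : (tilde.functor R).map (moduleSpecΓFunctor.map H) ≫ (homMod (tilde M) (tilde N')).fromTildeΓ =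
        (homMod (tilde M) (tilde N)).fromTildeΓ ≫ H :=
      Scheme.Modules.fromTildeΓNatTrans.naturality H
    have h3 : moduleSpecΓFunctor.map H ≫ (secEquiv M N').toModuleIso.hom =
        (secEquiv M N).toModuleIso.hom ≫ ((linearCoyoneda R (ModuleCat.{u} R)).obj (op M)).map f := by
      refine ModuleCat.hom_ext (LinearMap.ext fun s => ?_)
      exact secEquiv_natural M N f s
    show (PnDualLib.homFun (tilde M)).map ((tilde.functor R).map f) ≫
        inv (homMod (tilde M) (tilde N')).fromTildeΓ ≫ (tilde.functor R).map (secEquiv M N').toModuleIso.hom =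
      (inv (homMod (tilde M) (tilde N)).fromTildeΓ ≫ (tilde.functor R).map (secEquiv M N).toModuleIso.hom) ≫
        (tilde.functor R).map (((linearCoyoneda R (ModuleCat.{u} R)).obj (op M)).map f)
    rw [h1, Category.assoc, ← Functor.map_comp, ← h3, Functor.map_comp, IsIso.eq_inv_comp, ← Category.assoc,
      ← h2, Category.assoc, IsIso.hom_inv_id_assoc]

end Groth.Agent.ExtAffLib
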