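import Groth.Agent.ExtAffLib.HomTilde
import Groth.Agent.ExtLinLib.Basic
import Groth.Agent.InjModLib.TildeInj
import Groth.Agent.HensSchLib.Flat
import Mathlib.Algebra.Category.ModuleCat.EnoughInjectives
import Mathlib.Algebra.Category.ModuleCat.Ext.HasExt

/-!
# Ext sheaves of tildes
-/

set_option autoImplicit false
set_option maxHeartbeats 1000000
set_option linter.style.haveILetI false
set_option backward.isDefEq.respectTransparency false
set_option backward.isDefEq.respectTransparency.types false

noncomputable section

universe u

open CategoryTheory CategoryTheory.Limits AlgebraicGeometry Opposite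

namespace Groth.Agent.ExtAffLib

/-- Ext sheaves of tildes over a Noetherian ring are tildes of Ext modules. -/
theorem nonempty_extSh_tilde_iso {R : CommRingCat.{u}} [IsNoetherianRing R] (M : ModuleCat.{u} R) [Module.Finite R M]
    (N : ModuleCat.{u} R) [ModSite.HasSheafHom (O := (Spec R).sheaf) (tilde M)]
    [HasInjectiveResolutions (ModSite.Mod (Spec R).sheaf)] (i : ℕ) :
    Nonempty ((ModSite.extSh (O := (Spec R).sheaf) (tilde M) i).obj (tilde N) ≅
      tilde (ModuleCat.of R (Abelian.Ext M N i))) := by
  haveI : Module.FinitePresentation R M := Module.finitePresentation_of_finite R M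
  haveI := HensSchLib.tilde_preservesFiniteLimits R
  haveI : (tilde.functor R).IsLeftAdjoint := (tilde.adjunction (R := R)).isLeftAdjoint
  haveI : PreservesFiniteColimits (tilde.functor R) := PreservesColimits.preservesFiniteColimits _
  haveI : PreservesBinaryBiproducts (tilde.functor R) := preservesBinaryBiproducts_of_preservesBinaryCoproducts _
  haveI : (tilde.functor R).Additive := Functor.additive_of_preservesBinaryBiproducts _
  let T := tilde.functor R
  let C' := T.mapHomologicalComplex (ComplexShape.up ℕ)
  let J := InjectiveResolution.of N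
  haveI : QuasiIso (C'.map J.ι) := inferInstance
  let I : InjectiveResolution (tilde N) :=
    { cocomplex := C'.obj J.cocomplex
      injective := fun n => by
        haveI : Module.Injective R (J.cocomplex.X n) :=
          (Module.injective_iff_injective_object R (J.cocomplex.X n)).2 (J.injective n)
        exact InjModLib.injective_tilde (J.cocomplex.X n)
      ι := ((HomologicalComplex.singleMapHomologicalComplex T (ComplexShape.up ℕ) 0).app N).inv ≫ C'.map J.ι }
  obtain ⟨e⟩ := ExtShLib.nonempty_extSh_iso I (tilde M) i
  let P := (linearCoyoneda R (ModuleCat.{u} R)).obj (op M)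
  let K := (P.mapHomologicalComplex (ComplexShape.up ℕ)).obj J.cocomplex
  let σ := homTilde M
  let β : ExtShLib.hcx (tilde M) I ≅ C'.obj K :=
    HomologicalComplex.Hom.isoOfComponents (fun k => σ.app (J.cocomplex.X k))
      fun k l _ => (σ.hom.naturality (J.cocomplex.d k l)).symm
  obtain ⟨x⟩ := ExtLinLib.nonempty_homology_iso_ext J K (fun n => LinearEquiv.refl R _) (fun n x => rfl) i
  exact ⟨e ≪≫ (HomologicalComplex.homologyFunctor _ (ComplexShape.up ℕ) i).mapIso β ≪≫
    (K.sc i).mapHomologyIso T ≪≫ T.mapIso x⟩

end Groth.Agent.ExtAffLib
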