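import Groth.Agent.HomRestrLib.Basic
import Groth.Agent.ExtShLib.Hcx
import Groth.Prelude.Def_CxOX

/-!
# Ext sheaves and restriction along open immersions
-/

set_option autoImplicit false
set_option maxHeartbeats 1000000
set_option linter.style.haveILetI false
set_option backward.isDefEq.respectTransparency false
set_option backward.isDefEq.respectTransparency.types false

noncomputable section

universe u

open CategoryTheory CategoryTheory.Limits AlgebraicGeometry

namespace Groth.Agent.ExtAffLib

/-- Ext sheaves commute with restriction along an open immersion preserving injectives. -/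
theorem nonempty_extSh_restrict {X V : Scheme.{u}} (j : V ⟶ X) [IsOpenImmersion j]
    (hinj : ∀ (I : X.Modules) [Injective I], Injective (I.restrict j)) (F G : X.Modules) (i : ℕ)
    [ModSite.HasSheafHom (O := X.sheaf) F] [HasInjectiveResolutions (ModSite.Mod X.sheaf)]
    [ModSite.HasSheafHom (O := V.sheaf) (F.restrict j)] [HasInjectiveResolutions (ModSite.Mod V.sheaf)] :
    Nonempty ((Scheme.Modules.restrictFunctor j).obj ((ModSite.extSh (O := X.sheaf) F i).obj G) ≅
      (ModSite.extSh (O := V.sheaf) (F.restrict j) i).obj (G.restrict j)) := by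
  haveI : HasInjectiveResolutions X.Modules := ‹HasInjectiveResolutions (ModSite.Mod X.sheaf)›
  let R := Scheme.Modules.restrictFunctor j
  haveI : R.IsRightAdjoint := (CxOX.extZeroAdj j).isRightAdjoint
  haveI : R.IsLeftAdjoint := (Scheme.Modules.restrictAdjunction j).isLeftAdjoint
  haveI : R.Additive := (Scheme.Modules.restrictAdjunction j).left_adjoint_additive
  haveI : PreservesFiniteLimits R := PreservesLimits.preservesFiniteLimits R
  haveI : PreservesFiniteColimits R := PreservesColimits.preservesFiniteColimits R
  let I := InjectiveResolution.of G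
  let C' := (R.mapHomologicalComplex (ComplexShape.up ℕ))
  haveI : QuasiIso (C'.map I.ι) := inferInstance
  let I' : InjectiveResolution (G.restrict j) :=
    { cocomplex := C'.obj I.cocomplex
      injective := fun n => hinj (I.cocomplex.X n)
      ι := ((HomologicalComplex.singleMapHomologicalComplex R (ComplexShape.up ℕ) 0).app G).inv ≫ C'.map I.ι }
  obtain ⟨e⟩ := ExtShLib.nonempty_extSh_iso I F i
  obtain ⟨e'⟩ := ExtShLib.nonempty_extSh_iso I' (F.restrict j) i
  let σ := HomRestrLib.restrHomFun j F
  let β : C'.obj (ExtShLib.hcx F I) ≅ ExtShLib.hcx (F.restrict j) I' :=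
    HomologicalComplex.Hom.isoOfComponents (fun k => σ.app _) fun k l _ => (σ.hom.naturality _).symm
  exact ⟨R.mapIso e ≪≫ (((ExtShLib.hcx F I).sc i).mapHomologyIso R).symm ≪≫
    (HomologicalComplex.homologyFunctor _ (ComplexShape.up ℕ) i).mapIso β ≪≫ e'.symm⟩

end Groth.Agent.ExtAffLib
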