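import Groth.Agent.ExtAffLib.Main
import Groth.Agent.ExtAffLib.Restrict
import Groth.Agent.InjModLib.TildeInj
import Groth.Agent.InjModLib.Stalk
import Groth.Agent.FLILib.Invertible
import Groth.Agent.ExtShLib.Contra

/-!
# Sections of Ext sheaves over affine opens
-/

set_option autoImplicit false
set_option maxHeartbeats 1000000
set_option synthInstance.maxHeartbeats 200000
set_option linter.style.haveILetI false
set_option backward.isDefEq.respectTransparency false
set_option backward.isDefEq.respectTransparency.types false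

noncomputable section

universe u

open CategoryTheory CategoryTheory.Limits AlgebraicGeometry Opposite
open PnDualLib (preMap)

namespace Groth.Agent.ExtAffLib

variable {X : Scheme.{u}}

/-- Ext sheaves only depend on the first argument up to isomorphism. -/
theorem nonempty_extSh_congr {F F' : X.Modules} (α : F ≅ F') (G : X.Modules) (i : ℕ)
    [ModSite.HasSheafHom (O := X.sheaf) F] [ModSite.HasSheafHom (O := X.sheaf) F']
    [HasInjectiveResolutions (ModSite.Mod X.sheaf)] :
    Nonempty ((ModSite.extSh (O := X.sheaf) F i).obj G ≅ (ModSite.extSh (O := X.sheaf) F' i).obj G) := by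
  haveI : HasInjectiveResolutions X.Modules := ‹HasInjectiveResolutions (ModSite.Mod X.sheaf)›
  let I := InjectiveResolution.of G
  obtain ⟨e⟩ := ExtShLib.nonempty_extSh_iso I F i
  obtain ⟨e'⟩ := ExtShLib.nonempty_extSh_iso I F' i
  let β : ExtShLib.hcx F I ≅ ExtShLib.hcx F' I :=
    HomologicalComplex.Hom.isoOfComponents
      (fun k => { hom := preMap α.inv (I.cocomplex.X k)
                  inv := preMap α.hom (I.cocomplex.X k)
                  hom_inv_id := ((ExtShLib.preMap_comp α.hom α.inv _).trans ((congrArg (fun f => preMap f (I.cocomplex.X k)) α.hom_inv_id).trans (ExtShLib.preMap_id _ _)))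
                  inv_hom_id := ((ExtShLib.preMap_comp α.inv α.hom _).trans ((congrArg (fun f => preMap f (I.cocomplex.X k)) α.inv_hom_id).trans (ExtShLib.preMap_id _ _))) })
      fun k l h => (ExtShLib.preCx I α.inv).comm' k l h
  exact ⟨e ≪≫ (HomologicalComplex.homologyFunctor _ (ComplexShape.up ℕ) i).mapIso β ≪≫ e'.symm⟩

/-- Sections of Ext sheaves over an affine open. -/
theorem nonempty_sections_extSh {U : X.Opens} (hU : IsAffineOpen U) [IsNoetherianRing Γ(X, U)] (F G : X.Modules)
    [Coh.IsQCoh F] [Module.Finite Γ(X, U) Γ(F, U)] [Coh.IsQCoh G]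
    [ModSite.HasSheafHom (O := X.sheaf) F] [HasInjectiveResolutions (ModSite.Mod X.sheaf)] (i : ℕ) :
    Nonempty (Γ((ModSite.extSh (O := X.sheaf) F i).obj G, U) ≃ₗ[Γ(X, U)]
      Abelian.Ext (ModuleCat.of Γ(X, U) Γ(F, U)) (ModuleCat.of Γ(X, U) Γ(G, U)) i) := by
  let j := hU.fromSpec
  let R := Γ(X, U)
  haveI : HasInjectiveResolutions (ModSite.Mod (Spec R).sheaf) := inferInstanceAs (HasInjectiveResolutions (Spec R).Modules)
  let M : ModuleCat.{u} R := ModuleCat.of R Γ(F, U)
  let N : ModuleCat.{u} R := ModuleCat.of R Γ(G, U)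
  have hF : IsIso (F.restrict j).fromTildeΓ := @Scheme.Modules.isIso_fromTildeΓ_of_isQuasicoherent _ _
      (Scheme.Modules.isQuasicoherent_restrictFunctor hU.fromSpec F)
  have hG : IsIso (G.restrict j).fromTildeΓ := @Scheme.Modules.isIso_fromTildeΓ_of_isQuasicoherent _ _
      (Scheme.Modules.isQuasicoherent_restrictFunctor hU.fromSpec G)
  obtain ⟨sF⟩ := InjModLib.exists_sectionsEquiv hU F
  obtain ⟨sG⟩ := InjModLib.exists_sectionsEquiv hU G
  let αF : F.restrict j ≅ tilde M := (asIso (F.restrict j).fromTildeΓ).symm ≪≫ (tilde.functor R).mapIso sF.toModuleIso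
  let αG : G.restrict j ≅ tilde N := (asIso (G.restrict j).fromTildeΓ).symm ≪≫ (tilde.functor R).mapIso sG.toModuleIso
  haveI : ModSite.HasSheafHom (O := (Spec R).sheaf) (F.restrict j) := FLI.hasSheafHom _
  haveI : ModSite.HasSheafHom (O := (Spec R).sheaf) (tilde M) := FLI.hasSheafHom _
  obtain ⟨e₁⟩ := nonempty_extSh_restrict j (fun I _ => InjModLib.injective_restrict_fromSpec' I hU) F G i
  obtain ⟨e₂⟩ := nonempty_extSh_congr αF (G.restrict j) i
  obtain ⟨e₃⟩ := nonempty_extSh_tilde_iso M N i
  let E : X.Modules := (ModSite.extSh (O := X.sheaf) F i).obj G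
  let e : E.restrict j ≅ tilde (ModuleCat.of R (Abelian.Ext M N i)) :=
    e₁ ≪≫ e₂ ≪≫ (ModSite.extSh (O := (Spec R).sheaf) (tilde M) i).mapIso αG ≪≫ e₃
  obtain ⟨sE⟩ := InjModLib.exists_sectionsEquiv hU E
  exact ⟨sE.symm ≪≫ₗ ((moduleSpecΓFunctor (R := R)).mapIso e ≪≫ (tilde.isoTop _).symm).toLinearEquiv⟩

end Groth.Agent.ExtAffLib
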